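import Groth.Agent.ExtSupp.K787.GammaZ
import Groth.Agent.ExtSupp.K787.TensQuot

/-!
# `O ⊗ M ≅ M`
-/

set_option autoImplicit false

universe u

open CategoryTheory CategoryTheory.Limits Opposite MonoidalCategory

namespace K787.LeftUnit

variable {C : Type u} [SmallCategory C] {J : GrothendieckTopology C} {O : Sheaf J CommRingCat.{u}}

open scoped K291.Mon in
/-- `O ⊗ M ≅ M`. -/
noncomputable def unitTensorIso (M : ModSite.Mod O) : (TensQuot.T M).obj (ModSite.unit O) ≅ M := λ_ M

end K787.LeftUnit
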