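import Groth.Agent.ModSite.K291.FrTens
import Groth.Agent.ModSite.K295.FlatCrit
import Groth.Agent.ExtSupp.K787.QuotSect
import Groth.Agent.ExtSupp.K787.Sections

/-!
# Sections of `Γ_Z(F)`
-/

set_option autoImplicit false

universe u

open CategoryTheory CategoryTheory.Limits Opposite

namespace K787.SectElem

open K787.Sections K291.Mon K291.Tens Groth.Agent.Dcoh

variable {C : Type u} [SmallCategory C] {J : GrothendieckTopology C} {O : Sheaf J CommRingCat.{u}}

/-- Sections of a sheafification are locally sections of the presheaf. -/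
theorem exists_shs {P : PM O} {V : C} (m : ModSite.sect ((shP O).obj P) V) :
    ∃ R ∈ J V, ∀ ⦃W : C⦄ (g : W ⟶ V), R g → ∃ p : P.obj (op W), shs p = rs _ g m := by
  obtain ⟨S, hS, h⟩ := (K295.FlatCrit.LS_iff _).1 (K295.FlatCrit.WO_LS _ (WO_unit O P)) V m
  exact ⟨S, hS, h⟩

/-- A morphism out of a free module killing the generators over `V` kills all sections of the presheaf over `V`. -/
theorem sec_free_eq_zero {A : Cᵒᵖ ⥤ Type u} {F : ModSite.Mod O} (φ : (K291.FreeOn.Fr O).obj A ⟶ F) {V : C}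
    (h : ∀ a : A.obj (op V), ev φ V (fg a) = 0)
    (p : ((PresheafOfModules.free (O.obj ⋙ forget₂ CommRingCat.{u} RingCat.{u})).obj A : PM O).obj (op V)) :
    ev φ V (shs (P := (PresheafOfModules.free (O.obj ⋙ forget₂ CommRingCat.{u} RingCat.{u})).obj A) p) = 0 := by
  have key : ∀ (f g : (A.obj (op V) →₀ O.obj.obj (op V)) →ₗ[O.obj.obj (op V)] ((toP O).obj F).obj (op V)),
      (∀ z, f (Finsupp.single z 1) = g (Finsupp.single z 1)) → f = g :=
    fun f g h => Finsupp.lhom_ext' (fun z => LinearMap.ext_ring (h z))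
  have h1 := key (MonW.sec ((shAdj O).homEquiv _ _ φ) (op V)) 0 (fun a => (homEquiv_shs φ _).trans (h a))
  exact (homEquiv_shs φ p).symm.trans (congrArg (fun f => f p) h1)

/-- A morphism out of a free module killing the generators over `V`, for all `V` over `U`, is zero on `U`. -/
theorem restr_map_fr_eq_zero (U : C) {A : Cᵒᵖ ⥤ Type u} {F : ModSite.Mod O} (φ : (K291.FreeOn.Fr O).obj A ⟶ F)
    (h : ∀ ⦃V : C⦄ (_ : V ⟶ U) (a : A.obj (op V)), ev φ V (fg a) = 0) : (ModSite.restr O U).map φ = 0 := by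
  apply hom_ext
  intro T m
  change ev φ T.left m = 0
  obtain ⟨R, hR, h'⟩ := exists_shs
    (P := (PresheafOfModules.free (O.obj ⋙ forget₂ CommRingCat.{u} RingCat.{u})).obj A) (V := T.left) m
  refine eq_zero_of_locally F _ R hR fun W g hg => ?_
  obtain ⟨p, hp⟩ := h' g hg
  rw [← ev_rs]
  refine (congrArg (ev φ W) hp.symm).trans ?_
  exact sec_free_eq_zero φ (fun a => h (g ≫ T.hom) a) p

variable (U : C) [ModSite.HasPushOver O U]

/-- A section is in `Γ_Z(F)` iff it vanishes on all objects over `U`. -/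
theorem mem_range_sectOnι_iff (F : ModSite.Mod O) {V : C} (x : ModSite.sect F V) :
    (∃ y, ev ((ModSite.sectOnι O U).app F) V y = x) ↔
      ∀ ⦃W : C⦄ (g : W ⟶ V) (_ : W ⟶ U), rs F g x = 0 := by
  constructor
  · rintro ⟨y, rfl⟩ W g r
    rw [← ev_rs]
    have h1 := (isNullOn_iff U _).1 (QuotSect.isNullOn_sectOn O U F) r (rs _ g y)
    exact (congrArg _ h1).trans (map_zero _)
  · intro h
    let t : yoneda.obj V ⟶ (K291.FreeOn.toSet O).obj F := yonedaEquiv.symm x
    let φ : (K291.FreeOn.Fr O).obj (yoneda.obj V) ⟶ F := fdesc t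
    have h1 : ∀ {W : C} (a : W ⟶ V), ev φ W (fg (A := yoneda.obj V) a) = rs F a x := fun a =>
      (sc_fdesc t a)
    have h2 : (ModSite.restr O U).map φ = 0 :=
      restr_map_fr_eq_zero U φ (fun W r a => (h1 a).trans (h a r))
    have h3 := QuotSect.comp_unit_eq_zero O U φ h2
    refine ⟨ev (kernel.lift _ φ h3) V (fg (A := yoneda.obj V) (𝟙 V)), ?_⟩
    refine Eq.trans ?_ ((h1 (𝟙 V)).trans (rs_id F x))
    exact congrArg (fun ψ => ev ψ V (fg (A := yoneda.obj V) (𝟙 V))) (kernel.lift_ι _ φ h3)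

end K787.SectElem
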