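import Groth.Agent.ExtSupp.K787.GammaZ
import Groth.Agent.ExtSupp.K787.TensQuot

/-!
# `Γ_Z ℋom(M, -) ≅ ℋom(M, Γ_Z(-)) ≅ ℋom(M/M_U, -)`
-/

set_option autoImplicit false

universe u

open CategoryTheory CategoryTheory.Limits Opposite MonoidalCategory

namespace K787.SectHom

open K291.Mon K787.TensQuot

variable {C : Type u} [SmallCategory C] {J : GrothendieckTopology C} {O : Sheaf J CommRingCat.{u}}
  (U : C) [ModSite.HasPushOver O U]

omit [ModSite.HasPushOver O U] in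
@[reassoc]
theorem qπ_map {X Y : ModSite.Mod O} (f : X ⟶ Y) :
    qπ (U := U) X ≫ (ModSite.quotOn O U).map f = f ≫ qπ (U := U) Y :=
  ((ModSite.quotOnπ O U).naturality f).symm

theorem toT_naturality (M : ModSite.Mod O) {X Y : ModSite.Mod O} (f : X ⟶ Y) :
    (ModSite.quotOn O U).map ((T M).map f) ≫ toT U Y M = toT U X M ≫ (T M).map ((ModSite.quotOn O U).map f) := by
  have h1 := QuotSect.epi_quotOnπ O U ((T M).obj X)
  rw [← cancel_epi (qπ (U := U) ((T M).obj X)), qπ_map_assoc, π_toT, ← Category.assoc, π_toT, ← Functor.map_comp,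
    ← Functor.map_comp, qπ_map]

theorem toT_naturality_right (X : ModSite.Mod O) {M N : ModSite.Mod O} (g : M ⟶ N) :
    (ModSite.quotOn O U).map (((ModSite.tensorBi O).obj X).map g) ≫ toT U X N =
      toT U X M ≫ ((ModSite.tensorBi O).obj ((ModSite.quotOn O U).obj X)).map g := by
  have h1 := QuotSect.epi_quotOnπ O U ((T M).obj X)
  rw [← cancel_epi (qπ (U := U) ((T M).obj X)), ← Category.assoc, ← Category.assoc, π_toT]
  refine (congrArg (fun φ => φ ≫ toT U X N) (qπ_map U (((ModSite.tensorBi O).obj X).map g))).trans ?_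
  rw [Category.assoc]
  refine (congrArg (fun φ => ((ModSite.tensorBi O).obj X).map g ≫ φ) (π_toT U X N)).trans ?_
  exact (((ModSite.tensorBi O).map (qπ (U := U) X)).naturality g)

/-- `(X ⊗ M)/(X ⊗ M)_U ≅ (X/X_U) ⊗ M`, naturally in `X`. -/
noncomputable def toTIso (M : ModSite.Mod O) :
    T M ⋙ ModSite.quotOn O U ≅ ModSite.quotOn O U ⋙ T M :=
  NatIso.ofComponents (fun X => asIso (toT U X M)) (fun f => toT_naturality U M f)

/-- `(X ⊗ M)/(X ⊗ M)_U ≅ (X/X_U) ⊗ M`, naturally in `M`. -/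
noncomputable def toTIsoRight (X : ModSite.Mod O) :
    (ModSite.tensorBi O).obj X ⋙ ModSite.quotOn O U ≅ (ModSite.tensorBi O).obj ((ModSite.quotOn O U).obj X) :=
  NatIso.ofComponents (fun M => asIso (toT U X M)) (fun g => toT_naturality_right U X g)

/-- `X ⊗ (M/M_U) ≅ (X/X_U) ⊗ M`, naturally in `X`. -/
noncomputable def quotRightIso (M : ModSite.Mod O) :
    T ((ModSite.quotOn O U).obj M) ≅ ModSite.quotOn O U ⋙ T M :=
  (K291.Mon.objIsoFlip O ((ModSite.quotOn O U).obj M)).symm ≪≫ (toTIsoRight U M).symm ≪≫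
    Functor.isoWhiskerRight (K291.Mon.objIsoFlip O M) (ModSite.quotOn O U) ≪≫ toTIso U M

/-- `Γ_Z ℋom(M, -) ≅ ℋom(M, Γ_Z(-))`. -/
noncomputable def iso₁ (M : ModSite.Mod O) [ModSite.HasSheafHom M] :
    ModSite.sheafHom M ⋙ ModSite.sectOn O U ≅ ModSite.sectOn O U ⋙ ModSite.sheafHom M :=
  Adjunction.rightAdjointUniq ((QuotSect.adj O U).comp (ModSite.sheafHomAdj M))
    (((ModSite.sheafHomAdj M).comp (QuotSect.adj O U)).ofNatIsoLeft (toTIso U M))

/-- `Γ_Z ℋom(M, -) ≅ ℋom(M/M_U, -)`. -/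
noncomputable def iso₂ (M : ModSite.Mod O) [ModSite.HasSheafHom M]
    [ModSite.HasSheafHom ((ModSite.quotOn O U).obj M)] :
    ModSite.sheafHom M ⋙ ModSite.sectOn O U ≅ ModSite.sheafHom ((ModSite.quotOn O U).obj M) :=
  Adjunction.rightAdjointUniq ((QuotSect.adj O U).comp (ModSite.sheafHomAdj M))
    ((ModSite.sheafHomAdj ((ModSite.quotOn O U).obj M)).ofNatIsoLeft (quotRightIso U M))

end K787.SectHom
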