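import Groth.Agent.ModSite.K787.SectElem
import Groth.Agent.ExtSupp.K787.RestrAb
import Groth.Agent.CohqA.DerComp
import Groth.Agent.ModSite.K296.IHomRestr

/-!
# `Γ_Z` commutes with restriction to `C/X`
-/

set_option autoImplicit false

universe v v' w u u'

open CategoryTheory CategoryTheory.Limits Opposite

namespace K787.SectRestr

open K787.Sections

section Abs

variable {D : Type*} [Category* D] {E : Type*} [Category* E] {P Q R : D ⥤ E} (a : P ⟶ R) (b : Q ⟶ R)

/-- Two functorial subobjects of `R` which contain each other are isomorphic. -/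
noncomputable def isoOfFactors (ha : ∀ X, Mono (a.app X)) (hb : ∀ X, Mono (b.app X))
    (h : ∀ X, ∃ c, c ≫ b.app X = a.app X) (h' : ∀ X, ∃ c, c ≫ a.app X = b.app X) : P ≅ Q :=
  NatIso.ofComponents
    (fun X =>
      { hom := (h X).choose
        inv := (h' X).choose
        hom_inv_id := by
          have := ha X
          rw [← cancel_mono (a.app X), Category.assoc, (h' X).choose_spec, (h X).choose_spec, Category.id_comp]
        inv_hom_id := by
          have := hb X
          rw [← cancel_mono (b.app X), Category.assoc, (h X).choose_spec, (h' X).choose_spec, Category.id_comp] })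
    (fun {X Y} f => by
      have := hb Y
      refine (cancel_mono (b.app Y)).1 ?_
      refine (Category.assoc _ _ _).trans ?_
      refine (congrArg (fun t => P.map f ≫ t) (h Y).choose_spec).trans ?_
      refine (a.naturality f).trans ?_
      refine (congrArg (fun t => t ≫ R.map f) (h X).choose_spec).symm.trans ?_
      refine (Category.assoc _ _ _).trans (Eq.trans ?_ (Category.assoc _ _ _).symm)
      exact congrArg (fun t => (h X).choose ≫ t) (b.naturality f).symm)

end Abs

section Factor

variable {C : Type u} [SmallCategory C] {J : GrothendieckTopology C} {O : Sheaf J CommRingCat.{u}}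

/-- A map factors through a submodule containing its sections. -/
theorem exists_factor {A B F : ModSite.Mod O} (a : A ⟶ F) [Mono a] (b : B ⟶ F)
    (h : ∀ (V : C) (y : ModSite.sect B V), ∃ x, ev a V x = ev b V y) : ∃ c, c ≫ a = b := by
  have h1 : b ≫ cokernel.π a = 0 := by
    apply hom_ext
    intro V y
    obtain ⟨x, hx⟩ := h V y
    rw [ev_comp, ← hx, ← ev_comp, cokernel.condition]
    rfl
  have hk := Abelian.monoIsKernelOfCokernel _ (cokernelIsCokernel a)
  exact ⟨hk.lift (KernelFork.ofι b h1), hk.fac _ WalkingParallelPair.zero⟩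

end Factor

variable {C : Type u} [SmallCategory C] {J : GrothendieckTopology C} (O : Sheaf J CommRingCat.{u})
  (U X : C) (W : Over X) (w : W.left ⟶ U) (hW : ∀ (T : Over X) (_ : T.left ⟶ U), Nonempty (T ⟶ W))
  [ModSite.HasPushOver O U] [ModSite.HasPushOver (O.over X) W]

/-- `Γ_Z(F)|_X ≅ Γ_{Z/X}(F|_X)`. -/
noncomputable def sectRestr : ModSite.sectOn O U ⋙ ModSite.restr O X ≅
    ModSite.restr O X ⋙ ModSite.sectOn (O.over X) W := by
  have hm : ∀ F : ModSite.Mod O, Mono ((ModSite.restr O X).map ((ModSite.sectOnι O U).app F)) := fun F => by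
    have := QuotSect.mono_sectOnι O U F
    infer_instance
  have hm' : ∀ F : ModSite.Mod O, Mono ((ModSite.sectOnι (O.over X) W).app ((ModSite.restr O X).obj F)) := fun F =>
    QuotSect.mono_sectOnι (O.over X) W _
  have key : ∀ (F : ModSite.Mod O) (T : Over X) (x : ModSite.sect F T.left),
      (∃ y, ev ((ModSite.sectOnι O U).app F) T.left y = x) ↔
      ∃ y, ev ((ModSite.sectOnι (O.over X) W).app ((ModSite.restr O X).obj F)) T y = x := by
    intro F T x
    rw [SectElem.mem_range_sectOnι_iff, SectElem.mem_range_sectOnι_iff]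
    constructor
    · intro h T' g r
      exact h g.left (r.left ≫ w)
    · intro h V g r
      obtain ⟨s⟩ := hW (Over.mk (g ≫ T.hom)) r
      exact h (Over.homMk g : Over.mk (g ≫ T.hom) ⟶ T) s
  refine isoOfFactors (Functor.whiskerRight (ModSite.sectOnι O U) (ModSite.restr O X))
    (Functor.whiskerLeft (ModSite.restr O X) (ModSite.sectOnι (O.over X) W)) hm hm' ?_ ?_
  · intro F
    exact @exists_factor _ _ _ _ _ _ _ _ (hm' F) ((ModSite.restr O X).map ((ModSite.sectOnι O U).app F))
      fun T y => (key F T _).1 ⟨y, rfl⟩
  · intro F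
    exact @exists_factor _ _ _ _ _ _ _ _ (hm F) ((ModSite.sectOnι (O.over X) W).app ((ModSite.restr O X).obj F))
      fun T y => (key F T _).2 ⟨y, rfl⟩

/-- Local cohomology sheaves commute with restriction. -/
noncomputable def HZshRestr [HasInjectiveResolutions (ModSite.Mod O)]
    [HasInjectiveResolutions (ModSite.Mod (O.over X))] (q : ℕ) :
    ModSite.HZsh O U q ⋙ ModSite.restr O X ≅ ModSite.restr O X ⋙ ModSite.HZsh (O.over X) W q :=
  Groth.Agent.CohqA.DerComp.compIso (F := ModSite.sectOn O U) (F' := ModSite.sectOn (O.over X) W)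
    (a := ModSite.restr O X) (b := ModSite.restr O X) (sectRestr O U X W w hW) q

end K787.SectRestr
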