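import Groth.Agent.LocCohZ.K287.FunNat
import Groth.Agent.ExtSupp.K787.Subterminal
import Groth.Agent.ExtSupp.K787.RestrAb
import Groth.Agent.ExtSupp.K787.QuotSect
import Groth.Agent.CohqA.DerComp
import Groth.Agent.ModSite.K296.IHomRestr

/-!
# `ℋ^1_Z` and `ℋ^{q+1}_Z` for `U` subterminal
-/

set_option autoImplicit false

universe v v' w u u'

open CategoryTheory CategoryTheory.Limits Opposite

namespace K787.UnitSub

section Abs

variable {A : Type*} [Category* A] {B : Type*} [Category* B] {L : B ⥤ A} {j : A ⥤ B} {R : B ⥤ A}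
  (adj : L ⊣ j) (adj' : j ⊣ R)

theorem exists_lift (M I : A) [Injective I] [Mono (adj.counit.app M)] (ν : M ⟶ R.obj (j.obj I)) :
    ∃ μ : M ⟶ I, μ ≫ adj'.unit.app I = ν := by
  let b : j.obj M ⟶ j.obj I := (adj'.homEquiv _ _).symm ν
  let c : L.obj (j.obj M) ⟶ I := (adj.homEquiv _ _).symm b
  refine ⟨Injective.factorThru c (adj.counit.app M), ?_⟩
  have h1 : adj.counit.app M ≫ Injective.factorThru c (adj.counit.app M) = c := Injective.comp_factorThru _ _
  have h2 : j.map (Injective.factorThru c (adj.counit.app M)) = b := by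
    apply (adj.homEquiv _ _).symm.injective
    rw [adj.homEquiv_counit]
    refine (adj.counit.naturality _).trans ?_
    exact h1
  rw [← Functor.id_map (Injective.factorThru c (adj.counit.app M)), adj'.unit.naturality]
  change adj'.unit.app M ≫ R.map (j.map _) = ν
  rw [h2]
  exact (adj'.homEquiv_unit M (j.obj I) b).symm.trans (Equiv.apply_symm_apply _ _)

theorem epi_unit (I : A) [Injective I] [Mono (adj.counit.app (R.obj (j.obj I)))] : Epi (adj'.unit.app I) := by
  obtain ⟨μ, hμ⟩ := exists_lift adj adj' (R.obj (j.obj I)) I (𝟙 _)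
  have : IsSplitEpi (adj'.unit.app I) := ⟨⟨⟨μ, hμ⟩⟩⟩
  infer_instance

end Abs

variable {C : Type u} [SmallCategory C] {J : GrothendieckTopology C} (O : Sheaf J CommRingCat.{u}) (U : C)
    (hU : ∀ V : C, Subsingleton (V ⟶ U)) [ModSite.HasPushOver O U]

theorem sectOn_comp (M : ModSite.Mod O) : (ModSite.sectOnι O U).app M ≫
    (ModSite.restrPushOverAdj O U).unit.app M = 0 := kernel.condition _

include hU in
theorem shortExact (I : ModSite.Mod O) (hI : Injective I) : (ShortComplex.mk ((ModSite.sectOnι O U).app I)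
    ((ModSite.restrPushOverAdj O U).unit.app I) (sectOn_comp O U I)).ShortExact := by
  have h1 : Mono ((ModSite.extZeroAdj O U).counit.app
      ((ModSite.pushOver O U).obj ((ModSite.restr O U).obj I))) := Subterminal.mono_counit U hU _
  exact { exact := ShortComplex.exact_of_f_is_kernel _ (kernelIsKernel ((ModSite.restrPushOverAdj O U).unit.app I))
          mono_f := QuotSect.mono_sectOnι O U I
          epi_g := epi_unit (ModSite.extZeroAdj O U) (ModSite.restrPushOverAdj O U) I }

variable [(ModSite.pushOver O U).Additive] [HasInjectiveResolutions (ModSite.Mod O)]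

open Groth.Agent.LocCohZ.K287 in
/-- `ℋ^1_Z` is the cokernel of `M ⟶ j_* j^* M`. -/
noncomputable def oneIso : ModSite.HZsh O U 1 ≅ cokernel (ModSite.restrPushOverAdj O U).unit :=
  FunNat.oneIso (P := ModSite.sectOn O U) (Q := 𝟭 _) (R := ModSite.restr O U ⋙ ModSite.pushOver O U)
    (ModSite.sectOnι O U) (ModSite.restrPushOverAdj O U).unit (sectOn_comp O U) (shortExact O U hU)

open Groth.Agent.LocCohZ.K287 in
/-- `ℋ^{q+2}_Z(M) = R^{q+1} j_*(M|_U)`. -/
noncomputable def succIso [HasInjectiveResolutions (ModSite.Mod (O.over U))] (q : ℕ) :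
    ModSite.HZsh O U (q + 2) ≅ ModSite.restr O U ⋙ (ModSite.pushOver O U).rightDerived (q + 1) :=
  (FunNat.succIso (P := ModSite.sectOn O U) (Q := 𝟭 _) (R := ModSite.restr O U ⋙ ModSite.pushOver O U)
    (ModSite.sectOnι O U) (ModSite.restrPushOverAdj O U).unit (sectOn_comp O U) (shortExact O U hU) q).symm ≪≫
  Groth.Agent.CohqA.DerComp.compIso (F := ModSite.restr O U ⋙ ModSite.pushOver O U)
    (F' := ModSite.pushOver O U) (a := ModSite.restr O U) (b := 𝟭 _) (Functor.rightUnitor _) (q + 1)

end K787.UnitSub
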